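import Groth.Agent.RefRank.Norm.FinLocFree
import Groth.Agent.QCohMod.PullbackSections
import Groth.Agent.QCohMod.ClosedImm
import Groth.Agent.QCohMod.Category
import Groth.Agent.PicAux.TensorLift
import Groth.Agent.LocFree.Tensor
import Groth.Agent.LocFree.Hom
import Groth.Agent.OmegaSheaf.IsoLocal
import Groth.Agent.RefRank.HomSec
import Groth.Prelude.Def_PerfAux

/-!
# The resolution property descends along finite locally free surjective morphisms
-/

set_option autoImplicit false
set_option linter.style.haveILetI false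
set_option backward.isDefEq.respectTransparency.types false

universe u

open CategoryTheory AlgebraicGeometry Opposite TopologicalSpace TensorProduct Groth.PicAux
open scoped DirectSum

namespace Groth.ResPropDescent

variable {X Y : Scheme.{u}} (f : X ⟶ Y)

/-- The pushforward of the structure sheaf. -/
noncomputable abbrev pushO : Y.Modules := (Coh.push f).obj (Coh.structureModule X)

/-- A section of `f_* O` as a function on the preimage. -/
noncomputable def upFun {W : Y.Opens} (b : Γ(pushO f, W)) : Γ(X, f ⁻¹ᵁ W) :=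
  toFun (U := f ⁻¹ᵁ W) b

theorem upFun_add {W : Y.Opens} (b b' : Γ(pushO f, W)) : upFun f (b + b') = upFun f b + upFun f b' := rfl

theorem upFun_smul {W : Y.Opens} (r : Γ(Y, W)) (b : Γ(pushO f, W)) :
    upFun f (r • b) = f.app W r * upFun f b := rfl

theorem upFun_res {W W' : Y.Opens} (h : W' ≤ W) (b : Γ(pushO f, W)) :
    upFun f (res (pushO f) h b) = resX X (f.preimage_mono h) (upFun f b) := rfl

variable (G : Y.Modules)

/-- A section of `f^* G` over a preimage as a section of its pushforward. -/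
abbrev toPush {W : Y.Opens} (s : Γ((Scheme.Modules.pullback f).obj G, f ⁻¹ᵁ W)) :
    Γ((Coh.push f).obj ((Scheme.Modules.pullback f).obj G), W) := s

theorem exists_gamma : ∃ γ : CohB1.tensorMod G (pushO f) ⟶
      (Coh.push f).obj ((Scheme.Modules.pullback f).obj G),
    ∀ W g b, γ.app W (tmulSec g b) = toPush f G (upFun f b • pullSec f G g) :=
  exists_tensor_lift (fun W => LinearMap.mk₂ Γ(Y, W)
      (fun g b => toPush f G (upFun f b • pullSec f G g))
      (fun g g' b => show upFun f b • pullSec f G (g + g') = _ • pullSec f G g + _ • pullSec f G g' by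
        rw [show pullSec f G (g + g') = pullSec f G g + pullSec f G g' from map_add _ _ _, smul_add]; rfl)
      (fun r g b => show upFun f b • pullSec f G (r • g) = f.app W r • (upFun f b • pullSec f G g) by
        rw [pullSec_smul, smul_comm])
      (fun g b b' => show upFun f (b + b') • pullSec f G g = _ by rw [upFun_add, add_smul]; rfl)
      (fun r g b => show upFun f (r • b) • pullSec f G g = f.app W r • (upFun f b • pullSec f G g) by
        rw [upFun_smul, mul_smul]))
    fun W W' h g b => by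
      show res ((Scheme.Modules.pullback f).obj G) (f.preimage_mono h) (upFun f b • pullSec f G g) =
        upFun f (res (pushO f) h b) • pullSec f G (res G h g)
      rw [upFun_res, ← res_pullSec]
      exact Groth.PicAux.res_smul (f.preimage_mono h) _ _

/-- The projection map `G ⊗ f_* O ⟶ f_* f^* G`. -/
noncomputable def gamma : CohB1.tensorMod G (pushO f) ⟶
    (Coh.push f).obj ((Scheme.Modules.pullback f).obj G) := (exists_gamma f G).choose

theorem gamma_tmul (W : Y.Opens) (g : Γ(G, W)) (b : Γ(pushO f, W)) :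
    (gamma f G).app W (tmulSec g b) = toPush f G (upFun f b • pullSec f G g) :=
  (exists_gamma f G).choose_spec W g b

theorem isIso_gamma [IsAffineHom f] [G.IsQuasicoherent] [(pushO f).IsQuasicoherent] :
    IsIso (gamma f G) := by
  refine Groth.QCohMod.isIso_of_affine_bijective _ fun W hW => ?_
  let e : f ⁻¹ᵁ W ≤ f ⁻¹ᵁ W := le_rfl
  letI := Groth.QCohMod.sectionsAlg f e
  let ι : Γ(pushO f, W) ≃ₗ[Γ(Y, W)] Γ(X, f ⁻¹ᵁ W) :=
    { toFun := upFun f
      invFun := fun c => c
      left_inv := fun _ => rfl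
      right_inv := fun _ => rfl
      map_add' := upFun_add f
      map_smul' := fun r b => by
        rw [RingHom.id_apply, Algebra.smul_def, upFun_smul]
        show f.app W r * _ = f.appLE W (f ⁻¹ᵁ W) e r * _
        rw [Scheme.Hom.appLE_eq_app] }
  let c : Γ(G, W) ⊗[Γ(Y, W)] Γ(pushO f, W) ≃ₗ[Γ(Y, W)] Γ(X, f ⁻¹ᵁ W) ⊗[Γ(Y, W)] Γ(G, W) :=
    (TensorProduct.comm _ _ _).trans (TensorProduct.congr ι (LinearEquiv.refl _ _))
  let E := Groth.QCohMod.pullSecEquiv f G e hW (hW.preimage f)
  have key : ∀ t : Γ(G, W) ⊗[Γ(Y, W)] Γ(pushO f, W),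
      (gamma f G).app W (Groth.LocFree.tensorSecEquiv hW t) = toPush f G (E (c t)) := by
    intro t
    induction t using TensorProduct.induction_on with
    | zero => simp only [map_zero]; rfl
    | tmul g b =>
      rw [Groth.LocFree.tensorSecEquiv_tmul, gamma_tmul]
      show upFun f b • pullSec f G g = upFun f b • res _ e (pullSec f G g)
      rw [Groth.PicAux.res_self]
    | add p q hp hq =>
      rw [map_add, map_add, hp, hq, map_add, map_add]
      rfl
  refine (Function.Bijective.of_comp_iff _ (Groth.LocFree.tensorSecEquiv hW).bijective).1 ?_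
  rw [show ((gamma f G).app W : Γ(CohB1.tensorMod G (pushO f), W) → _) ∘ Groth.LocFree.tensorSecEquiv hW =
    fun t => toPush f G (E (c t)) from funext key]
  exact E.bijective.comp c.bijective

section Ev

open Groth.RefRank (secToLin secToLin_res secToLin_add secToLin_smul)

variable {Y : Scheme.{u}} (G A : Y.Modules)

/-- The evaluation `(G ⊗ A) ⊗ A^∨ ⟶ G`. -/
theorem exists_ev : ∃ ev : CohB1.tensorMod (CohB1.tensorMod G A) (RefHull.homSh A (Coh.structureModule Y)) ⟶ G,
    ∀ W g a l, ev.app W (tmulSec (tmulSec g a) l) = toFun (secToLin l a) • g :=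
  exists_tensor_lift₃
    (fun W => LinearMap.mk₂ Γ(Y, W)
      (fun g a =>
        { toFun := fun l => toFun (secToLin l a) • g
          map_add' := fun l l' => by
            rw [secToLin_add, LinearMap.add_apply, ← add_smul]; rfl
          map_smul' := fun r l => by
            rw [secToLin_smul, LinearMap.smul_apply, RingHom.id_apply, toFun_smul, mul_smul] })
      (fun g g' a => LinearMap.ext fun l => smul_add _ _ _)
      (fun r g a => LinearMap.ext fun l => smul_comm _ _ _)
      (fun g a a' => LinearMap.ext fun l => by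
        show toFun (secToLin l (a + a')) • g = toFun (secToLin l a) • g + toFun (secToLin l a') • g
        rw [map_add, ← add_smul]; rfl)
      (fun r g a => LinearMap.ext fun l => by
        show toFun (secToLin l (r • a)) • g = r • (toFun (secToLin l a) • g)
        rw [map_smul, toFun_smul, mul_smul]))
    fun W W' h g a l => by
      show res G h (toFun (secToLin l a) • g) = toFun (secToLin (res _ h l) (res A h a)) • res G h g
      rw [Groth.PicAux.res_smul, ← toFun_res]
      exact congrArg (fun z => toFun z • res G h g) (secToLin_res h l a).symm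

end Ev

/-- The pushforward of a finite locally free module along a finite locally free morphism. -/
theorem isFinLocFree_push [IsFinite f] [Flat f] [LocallyOfFinitePresentation f] (E : X.Modules)
    (hE : FlatMod.IsFinLocFree E) : FlatMod.IsFinLocFree ((Coh.push f).obj E) := by
  haveI : E.IsQuasicoherent := KTheory.LocFree.isQCoh hE
  rw [Groth.LocFree.isFinLocFree_iff_affine]
  refine ⟨Groth.QCohMod.isQCoh_pushforward (M := E) f, fun V hV => ?_⟩
  obtain ⟨hA1, hA2⟩ := (Groth.LocFree.isFinLocFree_iff_affine.1 (Groth.RefRank.push_isFinLocFree f)).2 V hV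
  obtain ⟨hE1, hE2⟩ := Groth.LocFree.finite_projective_sections hE (hV.preimage f)
  letI := (f.app V).hom.toAlgebra
  letI : Module Γ(Y, V) Γ(E, f ⁻¹ᵁ V) := (inferInstance : Module Γ(Y, V) Γ((Coh.push f).obj E, V))
  haveI : IsScalarTower Γ(Y, V) Γ(X, f ⁻¹ᵁ V) Γ(E, f ⁻¹ᵁ V) := .of_algebraMap_smul fun _ _ => rfl
  haveI : Module.Finite Γ(Y, V) Γ(X, f ⁻¹ᵁ V) := hA1
  haveI : Module.Projective Γ(Y, V) Γ(X, f ⁻¹ᵁ V) := hA2
  have h1 : Module.Finite Γ(Y, V) Γ(E, f ⁻¹ᵁ V) := Module.Finite.trans Γ(X, f ⁻¹ᵁ V) _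
  have h2 : Module.Projective Γ(Y, V) Γ(E, f ⁻¹ᵁ V) := by
    haveI : ∀ n : ℕ, Module.Projective Γ(Y, V) (Fin n → Γ(X, f ⁻¹ᵁ V)) := fun n =>
      Module.Projective.of_equiv (DirectSum.linearEquivFunOnFintype Γ(Y, V) (Fin n) (fun _ => Γ(X, f ⁻¹ᵁ V)))
    obtain ⟨n, p, i, hp, hi, hpi⟩ := Module.Finite.exists_comp_eq_id_of_projective Γ(X, f ⁻¹ᵁ V) Γ(E, f ⁻¹ᵁ V)
    exact Module.Projective.of_split (i.restrictScalars Γ(Y, V)) (p.restrictScalars Γ(Y, V))
      (LinearMap.ext fun x => congr($hpi x))
  exact ⟨h1, h2⟩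

theorem exists_sum_eq_one [IsFinite f] [Surjective f] {W : Y.Opens} (hW : IsAffineOpen W)
    (hA : FlatMod.IsFinLocFree (pushO f)) :
    ∃ (n : ℕ) (a : Fin n → Γ(pushO f, W)) (l : Fin n → (Γ(pushO f, W) →ₗ[Γ(Y, W)] Γ(Y, W))),
      ∑ i, l i (a i) = 1 := by
  obtain ⟨hA1, hA2⟩ := Groth.LocFree.finite_projective_sections hA hW
  obtain ⟨n, p, i, hp, hi, hpi⟩ := Module.Finite.exists_comp_eq_id_of_projective Γ(Y, W) Γ(pushO f, W)
  let one : Γ(pushO f, W) := oneSec X (f ⁻¹ᵁ W)
  let I : Ideal Γ(Y, W) := Ideal.span (Set.range fun j => i one j)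
  have hI : I = ⊤ := by
    by_contra hI
    obtain ⟨m, hm, hIm⟩ := Ideal.exists_le_maximal _ hI
    obtain ⟨x, hx⟩ := f.surjective (hW.fromSpec ⟨m, hm.isPrime⟩)
    have hxW : x ∈ f ⁻¹ᵁ W := by
      show f x ∈ W
      rw [hx]
      exact hW.range_fromSpec.subset ⟨_, rfl⟩
    have h1 : one = ∑ j, i one j • p (Pi.single j 1) := by
      conv_lhs => rw [← show p (i one) = one from congr($hpi one), pi_eq_sum_univ' (i one)]
      simp only [map_sum, map_smul]
    have h2 : (1 : Γ(X, f ⁻¹ᵁ W)) = ∑ j, f.app W (i one j) * upFun f (p (Pi.single j 1)) := by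
      have := congrArg (upFun (W := W) f) h1
      rw [show upFun f one = 1 from rfl] at this
      refine this.trans ?_
      refine (map_sum (AddMonoidHom.mk' (upFun f) (upFun_add (W := W) f)) (fun j => i one j • p (Pi.single j 1)) Finset.univ).trans ?_
      exact Finset.sum_congr rfl fun j _ => upFun_smul f (i one j) (p (Pi.single j 1))
    have h3 := congrArg (X.presheaf.germ (f ⁻¹ᵁ W) x hxW) h2
    rw [map_one, map_sum] at h3
    refine IsLocalRing.maximalIdeal.isMaximal (X.presheaf.stalk x) |>.ne_top ((Ideal.eq_top_iff_one _).2 ?_)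
    rw [h3]
    refine Ideal.sum_mem _ fun j _ => ?_
    rw [map_mul]
    refine Ideal.mul_mem_right _ _ ?_
    rw [IsLocalRing.mem_maximalIdeal, mem_nonunits_iff]
    intro hu
    rw [← Scheme.mem_basicOpen, ← Scheme.preimage_basicOpen, Scheme.Hom.mem_preimage] at hu
    rw [Groth.QCohMod.mem_basicOpen_iff_notMem_primeIdealOf hW _ (f x) (by exact hxW)] at hu
    refine hu ?_
    have : hW.primeIdealOf ⟨f x, hxW⟩ = ⟨m, hm.isPrime⟩ :=
      hW.fromSpec.isOpenEmbedding.injective ((hW.fromSpec_primeIdealOf _).trans hx)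
    rw [this]
    exact hIm (Ideal.subset_span ⟨j, rfl⟩)
  obtain ⟨c, hc⟩ := (Ideal.mem_span_range_iff_exists_fun).1 ((Ideal.eq_top_iff_one _).1 hI)
  exact ⟨n, fun j => c j • one, fun j => LinearMap.proj j ∘ₗ i, by
    simpa only [LinearMap.comp_apply, map_smul, LinearMap.proj_apply, Pi.smul_apply, smul_eq_mul] using hc⟩

theorem exists_bundle (G : Y.Modules) [G.IsQuasicoherent] [IsFinite f] [Flat f]
    [LocallyOfFinitePresentation f] [Surjective f] (E : X.Modules) (hE : FlatMod.IsFinLocFree E)
    (π : E ⟶ (Scheme.Modules.pullback f).obj G) [Epi π] :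
    ∃ (V : Y.Modules) (ψ : V ⟶ G), FlatMod.IsFinLocFree V ∧ Epi ψ := by
  have hA : FlatMod.IsFinLocFree (pushO f) := Groth.RefRank.push_isFinLocFree f
  haveI : E.IsQuasicoherent := KTheory.LocFree.isQCoh hE
  haveI : (pushO f).IsQuasicoherent := KTheory.LocFree.isQCoh hA
  let D := RefHull.homSh (pushO f) (Coh.structureModule Y)
  have hO : FlatMod.IsFinLocFree (Coh.structureModule Y) := by
    rw [Groth.LocFree.isFinLocFree_iff_affine]
    exact ⟨Groth.Divisors.isQCoh_structureModule Y, fun V _ =>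
      ⟨inferInstanceAs (Module.Finite Γ(Y, V) Γ(Y, V)), inferInstanceAs (Module.Projective Γ(Y, V) Γ(Y, V))⟩⟩
  haveI := isIso_gamma f G
  obtain ⟨ev, hev⟩ := exists_ev G (pushO f)
  refine ⟨CohB1.tensorMod ((Coh.push f).obj E) D,
    KoszTw.tensorMap ((Coh.push f).map π ≫ inv (gamma f G)) (𝟙 D) ≫ ev,
    Groth.LocFree.isFinLocFree_tensorMod (isFinLocFree_push f E hE) (Groth.LocFree.isFinLocFree_homSh hA hO), ?_⟩
  refine Groth.OmegaSheaf.epi_of_affine_cover _ fun y => ?_
  obtain ⟨W, hW, hy⟩ := Groth.QCohMod.exists_affine_mem y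
  refine ⟨W, hW, hy, fun g => ?_⟩
  obtain ⟨n, a, l, hal⟩ := exists_sum_eq_one f hW hA
  have hl : ∀ i, ∃ L : Γ(D, W), ∀ b, toFun (Groth.RefRank.secToLin L b) = l i b := fun i => by
    obtain ⟨L, hL⟩ := Groth.RefRank.secToLin_surjective (F := pushO f) (G := Coh.structureModule Y) hW
      (show Γ(pushO f, W) →ₗ[Γ(Y, W)] Γ(Coh.structureModule Y, W) from
        { toFun := fun b => l i b
          map_add' := fun b b' => map_add (l i) b b'
          map_smul' := fun r b => map_smul (l i) r b })
    exact ⟨L, fun b => by rw [hL]; rfl⟩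
  choose L hL using hl
  have he : ∀ i, ∃ s : Γ((Coh.push f).obj E, W),
      ((Coh.push f).map π).app W s = (gamma f G).app W (tmulSec g (a i)) := fun i =>
    Groth.QCohMod.app_surjective_of_epi π (hW.preimage f) _
  choose s hs using he
  refine ⟨∑ i, tmulSec (s i) (L i), ?_⟩
  refine (map_sum ((KoszTw.tensorMap ((Coh.push f).map π ≫ inv (gamma f G)) (𝟙 D) ≫ ev).app W).hom _ _).trans ?_
  conv_rhs => rw [← one_smul Γ(Y, W) g, ← hal, Finset.sum_smul]
  refine Finset.sum_congr rfl fun i _ => ?_
  refine (congrArg (ev.app W) (tensorMap_app_tmulSec _ _ W (s i) (L i))).trans ?_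
  have h1 : ((Coh.push f).map π ≫ inv (gamma f G)).app W (s i) = tmulSec g (a i) := by
    refine (congrArg ((inv (gamma f G)).app W) (hs i)).trans ?_
    exact congr($(IsIso.hom_inv_id (gamma f G)).app W (tmulSec g (a i)))
  rw [h1]
  exact (hev W g (a i) (L i)).trans (by rw [hL])

end Groth.ResPropDescent
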